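import Cfsg.Agent.INV.HS.D7b

/-!
The field case: coordinates on the short root groups (`D7a`) and the short root subgroup (`D7b`).
-/
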